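import Groth.Agent.GlueTor.Main
import Groth.Prelude.Def_ActBC
import Groth.Agent.QuillenLib.Transport

/-! Equivariant isomorphisms of base changes as morphisms out of products. -/

set_option autoImplicit false
set_option linter.style.haveILetI false
set_option backward.isDefEq.respectTransparency false

universe u

open CategoryTheory CategoryTheory.Limits AlgebraicGeometry MonoidalCategory CartesianMonoidalCategory
open scoped MonObj

noncomputable section

namespace Groth.Agent.GlueTor

variable {S S' : Scheme.{u}} (v : S' ⟶ S) {X Y Z : Over S}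

@[reassoc]
theorem lift_left_fst {B : Scheme.{u}} {T U W : Over B} (f : T ⟶ U) (g : T ⟶ W) :
    (lift f g).left ≫ pullback.fst U.hom W.hom = f.left :=
  congrArg CommaMorphism.left (lift_fst f g)

@[reassoc]
theorem lift_left_snd {B : Scheme.{u}} {T U W : Over B} (f : T ⟶ U) (g : T ⟶ W) :
    (lift f g).left ≫ pullback.snd U.hom W.hom = g.left :=
  congrArg CommaMorphism.left (lift_snd f g)

/-- A morphism of base changes as a morphism from the product. -/
def zOf (e : Red.bc v X ⟶ Red.bc v Y) : X ⊗ Over.mk v ⟶ Y :=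
  Over.homMk (e.left ≫ pullback.fst Y.hom v) (by
    show (e.left ≫ pullback.fst Y.hom v) ≫ Y.hom = pullback.fst X.hom v ≫ X.hom
    rw [Category.assoc, pullback.condition, pullback.condition]
    exact (Category.assoc _ _ _).symm.trans (congrArg (· ≫ v) (Over.w e)))

theorem zOf_left (e : Red.bc v X ⟶ Red.bc v Y) : (zOf v e).left = e.left ≫ pullback.fst Y.hom v := rfl

theorem zOf_injective {e e' : Red.bc v X ⟶ Red.bc v Y} (h : zOf v e = zOf v e') : e = e' :=
  QuillenLib.bc_hom_ext v (congrArg CommaMorphism.left h)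

theorem zOf_map (α : X ⟶ Y) : zOf v ((Over.pullback v).map α) = fst X (Over.mk v) ≫ α :=
  Over.OverMorphism.ext (ActBC.pullback_map_left_fst v α)

theorem zOf_id : zOf v (𝟙 (Red.bc v X)) = fst X (Over.mk v) :=
  Over.OverMorphism.ext (Category.id_comp _)

theorem lift_zOf (e : Red.bc v X ⟶ Red.bc v Y) (f : Red.bc v Y ⟶ Red.bc v Z) :
    lift (zOf v e) (snd X (Over.mk v)) ≫ zOf v f = zOf v (e ≫ f) := by
  refine Over.OverMorphism.ext ?_
  rw [Over.comp_left, zOf_left, zOf_left, Over.comp_left, Category.assoc]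
  congr 1
  apply pullback.hom_ext
  · exact lift_left_fst (zOf v e) (snd X (Over.mk v))
  · exact (lift_left_snd (zOf v e) (snd X (Over.mk v))).trans (Over.w e).symm

theorem zOf_comm {G : Over S} [GrpObj G] {a : AlgGrp.Action G X} {a' : AlgGrp.Action G Y}
    (e : NonAbH1.EquivIso (a.bc v) (a'.bc v)) :
    (a.act ▷ Over.mk v) ≫ zOf v e.iso.hom =
      lift (fst _ _ ≫ fst G X) ((snd G X ▷ Over.mk v) ≫ zOf v e.iso.hom) ≫ a'.act := by
  let F := Over.pullback v
  have h1 : lift (F.map (fst G X)) (F.map (snd G X)) ≫ Functor.LaxMonoidal.μ F G X = 𝟙 _ := by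
    rw [Functor.Monoidal.lift_μ, lift_fst_snd]
    exact F.map_id _
  have h2 : F.map a.act ≫ e.iso.hom =
      lift (F.map (fst G X)) (F.map (snd G X) ≫ e.iso.hom) ≫ Functor.LaxMonoidal.μ F G Y ≫ F.map a'.act := by
    have hc : (Functor.LaxMonoidal.μ F G X ≫ F.map a.act) ≫ e.iso.hom =
        ((Red.bc v G) ◁ e.iso.hom) ≫ Functor.LaxMonoidal.μ F G Y ≫ F.map a'.act := e.comm
    calc F.map a.act ≫ e.iso.hom
        = lift (F.map (fst G X)) (F.map (snd G X)) ≫ (Functor.LaxMonoidal.μ F G X ≫ F.map a.act) ≫ e.iso.hom := by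
          rw [Category.assoc, reassoc_of% h1]
      _ = _ := by rw [hc, ← Category.assoc, lift_whiskerLeft]
  have h3 := congrArg (fun m => CommaMorphism.left m ≫ pullback.fst Y.hom v) h2
  have hw : (a.act ▷ Over.mk v).left = (F.map a.act).left := by
    apply pullback.hom_ext
    · exact (Over.whiskerRight_left_fst _).trans (ActBC.pullback_map_left_fst v a.act).symm
    · exact (Over.whiskerRight_left_snd _).trans (Over.w (F.map a.act)).symm
  refine Over.OverMorphism.ext ?_
  rw [Over.comp_left, zOf_left, hw, ← Category.assoc, ← Over.comp_left]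
  refine h3.trans ?_
  show (CommaMorphism.left (lift (F.map (fst G X)) (F.map (snd G X) ≫ e.iso.hom)) ≫
    (Functor.LaxMonoidal.μ F G Y).left ≫ (F.map a'.act).left) ≫ pullback.fst Y.hom v = _
  rw [Category.assoc, Category.assoc,
    ActBC.pullback_map_left_fst, ← Category.assoc, ← Category.assoc]
  congr 1
  rw [Category.assoc]
  apply pullback.hom_ext
  · rw [Category.assoc, Category.assoc, ActBC.μ_left_fst_fst]
    refine (lift_left_fst_assoc (F.map (fst G X)) (F.map (snd G X) ≫ e.iso.hom) (pullback.fst G.hom v)).trans ?_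
    exact (ActBC.pullback_map_left_fst v (fst G X)).trans (lift_left_fst (fst (G ⊗ X) (Over.mk v) ≫ fst G X) ((snd G X ▷ Over.mk v) ≫ zOf v e.iso.hom)).symm
  · rw [Category.assoc, Category.assoc, ActBC.μ_left_fst_snd]
    refine (lift_left_snd_assoc (F.map (fst G X)) (F.map (snd G X) ≫ e.iso.hom) (pullback.fst Y.hom v)).trans ?_
    refine Eq.trans ?_ (lift_left_snd (fst (G ⊗ X) (Over.mk v) ≫ fst G X) ((snd G X ▷ Over.mk v) ≫ zOf v e.iso.hom)).symm
    rw [Over.comp_left, Over.comp_left, zOf_left, Category.assoc]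
    congr 1

section square

variable {BU BV BW : Scheme.{u}} {uU : BU ⟶ S} {uV : BV ⟶ S} {wU : BW ⟶ BU} {wV : BW ⟶ BV}
  {P Q : Over S} (h : wU ≫ uU = wV ≫ uV)

/-- Compatibility over the overlap of morphisms of the two base changes. -/
def Compat (eU : Red.bc uU P ⟶ Red.bc uU Q) (eV : Red.bc uV P ⟶ Red.bc uV Q) : Prop :=
  (Over.pullback wU).map eU ≫ (ActBC.bcCompIso wU uU Q h).hom =
    (ActBC.bcCompIso wU uU P h).hom ≫ (ActBC.bcCompIso wV uV P rfl).inv ≫
      (Over.pullback wV).map eV ≫ (ActBC.bcCompIso wV uV Q rfl).hom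

theorem Compat.symm {eU : Red.bc uU P ≅ Red.bc uU Q} {eV : Red.bc uV P ≅ Red.bc uV Q}
    (hc : Compat h eU.hom eV.hom) : Compat h eU.inv eV.inv := by
  unfold Compat at hc ⊢
  rw [← cancel_epi ((Over.pullback wU).map eU.hom), ← Functor.map_comp_assoc, eU.hom_inv_id, reassoc_of% hc,
    Iso.hom_inv_id_assoc, ← Functor.map_comp_assoc, eV.hom_inv_id]
  simp

theorem whiskerLeft_left_eq {W : Over S} (d : BW ⟶ S) (e' : W.left ⟶ BW)
    (hd : e' ≫ d = W.hom) {B : Scheme.{u}} (b : B ⟶ S) (w : BW ⟶ B) (hw : w ≫ b = d) (i : W ⟶ Over.mk b)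
    (hi : i.left = e' ≫ w) :
    (P ◁ i).left = pullback.lift (pullback.fst P.hom W.hom) (pullback.snd P.hom W.hom ≫ e')
      (by rw [pullback.condition, Category.assoc, hd]) ≫ (ActBC.bcCompIso w b P hw).inv.left ≫ pullback.fst _ w := by
  apply pullback.hom_ext
  · refine (Over.whiskerLeft_left_fst _).trans ?_
    simp only [Category.assoc]
    refine Eq.trans ?_ (congrArg (_ ≫ ·) (QuillenLib.bcCompIso_inv_left w b hw P)).symm
    exact (pullback.lift_fst _ _ _).symm
  · refine (Over.whiskerLeft_left_snd _).trans ?_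
    simp only [Category.assoc]
    show _ = _ ≫ _ ≫ pullback.fst _ w ≫ (Red.bc b P).hom
    have h1 : (ActBC.bcCompIso w b P hw).inv.left ≫ pullback.fst (Red.bc b P).hom w ≫ (Red.bc b P).hom =
        pullback.snd P.hom d ≫ w := by
      rw [pullback.condition, ← Category.assoc]
      exact congrArg (· ≫ w) (Over.w (ActBC.bcCompIso w b P hw).inv)
    refine Eq.trans ?_ (congrArg (fun m => _ ≫ m) h1).symm
    rw [← Category.assoc, pullback.lift_snd, hi, Category.assoc]

/-- Compatibility gives agreement on the overlap. -/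
theorem Compat.agree {eU : Red.bc uU P ⟶ Red.bc uU Q} {eV : Red.bc uV P ⟶ Red.bc uV Q} (hc : Compat h eU eV)
    {W : Over S} (e' : W.left ⟶ BW) (hd : e' ≫ wV ≫ uV = W.hom)
    (iU : W ⟶ Over.mk uU) (hiU : iU.left = e' ≫ wU) (iV : W ⟶ Over.mk uV) (hiV : iV.left = e' ≫ wV) :
    (P ◁ iU) ≫ zOf uU eU = (P ◁ iV) ≫ zOf uV eV := by
  refine Over.OverMorphism.ext ?_
  rw [Over.comp_left, Over.comp_left, zOf_left, zOf_left, whiskerLeft_left_eq (wV ≫ uV) e' hd uU wU h iU hiU,
    whiskerLeft_left_eq (wV ≫ uV) e' hd uV wV rfl iV hiV]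
  simp only [Category.assoc]
  congr 1
  have := congrArg (fun m => CommaMorphism.left ((ActBC.bcCompIso wU uU P h).inv ≫ m) ≫
    pullback.fst Q.hom (wV ≫ uV)) hc
  simp only [Iso.inv_hom_id_assoc, Over.comp_left, Category.assoc, ActBC.bcCompIso_hom_left_fst,
    ActBC.pullback_map_left_fst_assoc] at this
  exact this

end square

end Groth.Agent.GlueTor
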