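import Groth.Agent.GlueTor.Points
import Mathlib.AlgebraicGeometry.Morphisms.UnderlyingMap
import Mathlib.RingTheory.Flat.FaithfullyFlat.Basic

/-! Morphisms from flat objects to torsors glue over a glueing square. -/

set_option autoImplicit false
set_option linter.style.haveILetI false
set_option backward.isDefEq.respectTransparency false

universe u

open CategoryTheory CategoryTheory.Limits AlgebraicGeometry MonoidalCategory CartesianMonoidalCategory TensorProduct
open scoped MonObj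

noncomputable section

namespace Groth.Agent.GlueTor

open GSGlue (Sp spMap)

theorem flat_of_faithfullyFlat_comp {R S T : Type*} [CommRing R] [CommRing S] [CommRing T] [Algebra R S]
    [Algebra S T] [Algebra R T] [IsScalarTower R S T] [Module.Flat R T] [Module.FaithfullyFlat S T] :
    Module.Flat R S := by
  rw [Module.Flat.iff_lTensor_preserves_injective_linearMap]
  intro N P _ _ _ _ g hg
  have hi : ∀ x : S ⊗[R] N, LinearMap.rTensor N ((IsScalarTower.toAlgHom R S T).toLinearMap) x =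
      TensorProduct.AlgebraTensorModule.cancelBaseChange R S T T N ((1 : T) ⊗ₜ[S] x) := by
    intro x
    induction x using TensorProduct.induction_on with
    | zero => simp
    | tmul s n => simp [Algebra.smul_def]
    | add x y hx hy => simp only [map_add, tmul_add, hx, hy]
  have hinj : Function.Injective (LinearMap.rTensor N ((IsScalarTower.toAlgHom R S T).toLinearMap)) := by
    intro x y h
    rw [hi, hi] at h
    exact Module.FaithfullyFlat.tensorProduct_mk_injective (A := S) (B := T) (S ⊗[R] N)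
      ((TensorProduct.AlgebraTensorModule.cancelBaseChange R S T T N).injective h)
  intro x y h
  apply hinj
  apply Module.Flat.lTensor_preserves_injective_linearMap (M := T) g hg
  have := congrArg (LinearMap.rTensor P ((IsScalarTower.toAlgHom R S T).toLinearMap)) h
  rwa [← LinearMap.comp_apply, ← LinearMap.comp_apply, LinearMap.rTensor_comp_lTensor,
    ← LinearMap.lTensor_comp_rTensor, LinearMap.comp_apply, LinearMap.comp_apply] at this

/-- Flatness descends along flat surjections of the source. -/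
theorem flat_of_flat_comp {X Y Z : Scheme.{u}} (g : X ⟶ Y) (f : Y ⟶ Z) [Flat g] [Surjective g] [Flat (g ≫ f)] :
    Flat f := by
  refine Flat.of_stalkMap f fun y => ?_
  obtain ⟨x, rfl⟩ := g.surjective y
  have h1 := Flat.stalkMap g x
  have h2 := Flat.stalkMap (g ≫ f) x
  rw [Scheme.Hom.stalkMap_comp, CommRingCat.hom_comp] at h2
  algebraize [(f.stalkMap (g x)).hom, (g.stalkMap x).hom, (g.stalkMap x).hom.comp (f.stalkMap (g x)).hom]
  haveI : Module.Flat (Z.presheaf.stalk (f (g x))) (X.presheaf.stalk x) := h2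
  haveI : IsLocalHom (algebraMap (Y.presheaf.stalk (g x)) (X.presheaf.stalk x)) := g.toLRSHom.prop x
  haveI : Module.FaithfullyFlat (Y.presheaf.stalk (g x)) (X.presheaf.stalk x) :=
    Module.FaithfullyFlat.of_flat_of_isLocalHom
  exact flat_of_faithfullyFlat_comp (T := X.presheaf.stalk x)

variable {A A' : Type u} [CommRing A] [CommRing A'] [Algebra A A'] {t : A}

theorem whisker_hom_ext {T : Over (Spec (CommRingCat.of A))} (𝒰 : T.left.OpenCover)
    {X Y : Over (Spec (CommRingCat.of A))} (a b : T ⊗ X ⟶ Y)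
    (h : ∀ i, ((Over.homMk (𝒰.f i) : Over.mk (𝒰.f i ≫ T.hom) ⟶ T) ▷ X) ≫ a =
      ((Over.homMk (𝒰.f i) : Over.mk (𝒰.f i ≫ T.hom) ⟶ T) ▷ X) ≫ b) : a = b := by
  refine Over.OverMorphism.ext (Scheme.Cover.hom_ext (𝒰.pullback₁ (fst T X).left) _ _ fun i => ?_)
  let K : Over (Spec (CommRingCat.of A)) := Over.mk (pullback.fst (fst T X).left (𝒰.f i) ≫ (T ⊗ X).hom)
  let k : K ⟶ T ⊗ X := Over.homMk (pullback.fst (fst T X).left (𝒰.f i))
  let l : K ⟶ Over.mk (𝒰.f i ≫ T.hom) := Over.homMk (pullback.snd (fst T X).left (𝒰.f i)) (by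
    show pullback.snd _ _ ≫ 𝒰.f i ≫ T.hom = pullback.fst _ _ ≫ (T ⊗ X).hom
    rw [← Category.assoc, ← pullback.condition, Category.assoc, Over.w])
  have hk : lift l (k ≫ snd T X) ≫ ((Over.homMk (𝒰.f i) : Over.mk (𝒰.f i ≫ T.hom) ⟶ T) ▷ X) = k := by
    apply CartesianMonoidalCategory.hom_ext
    · rw [Category.assoc, whiskerRight_fst, lift_fst_assoc]
      exact Over.OverMorphism.ext pullback.condition.symm
    · rw [Category.assoc, whiskerRight_snd, lift_snd]
  have : k ≫ a = k ≫ b := by rw [← hk, Category.assoc, Category.assoc, h i]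
  exact congrArg CommaMorphism.left this

/-- Flat surjections stay epimorphisms after a product. -/
theorem epi_whiskerRight {T' T : Over (Spec (CommRingCat.of A))} (p : T' ⟶ T) [Flat p.left] [Surjective p.left]
    (X : Over (Spec (CommRingCat.of A))) : Epi (p ▷ X) := by
  let K : Over (Spec (CommRingCat.of A)) := Over.mk (pullback.fst (fst T X).left p.left ≫ (T ⊗ X).hom)
  let k : K ⟶ T ⊗ X := Over.homMk (pullback.fst (fst T X).left p.left)
  let l : K ⟶ T' := Over.homMk (pullback.snd (fst T X).left p.left) (by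
    show pullback.snd _ _ ≫ T'.hom = pullback.fst _ _ ≫ (T ⊗ X).hom
    rw [← Over.w p, ← Category.assoc, ← pullback.condition, Category.assoc, Over.w])
  have hk : lift l (k ≫ snd T X) ≫ (p ▷ X) = k := by
    apply CartesianMonoidalCategory.hom_ext
    · rw [Category.assoc, whiskerRight_fst, lift_fst_assoc]
      exact Over.OverMorphism.ext pullback.condition.symm
    · rw [Category.assoc, whiskerRight_snd, lift_snd]
  haveI : Surjective (pullback.fst (fst T X).left p.left) := MorphismProperty.pullback_fst _ _ inferInstance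
  haveI : Epi k.left := Flat.epi_of_flat_of_surjective (pullback.fst (fst T X).left p.left)
  haveI : Epi k := Over.epi_of_epi_left k
  haveI : Epi (lift l (k ≫ snd T X) ≫ (p ▷ X)) := hk.symm ▸ inferInstance
  exact epi_of_epi (lift l (k ≫ snd T X)) _

section

variable (hq : QuotBij t (algebraMap A A')) (htor : TorBij t (algebraMap A A'))
  {G Y : Over (Spec (CommRingCat.of A))} [GrpObj G] [G.left.IsQuasiAffine] (a : AlgGrp.Action G Y)
  (ha : NonAbH1.IsPseudoTorsorSch a)

include hq htor ha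

theorem glue_point_affine (T : Over (Spec (CommRingCat.of A))) [IsAffine T.left] [Flat T.hom] (s : T ⟶ Y) :
    Sep A' t T Y ∧ Ex A' t T Y := by
  haveI : IsIso (lift a.act (snd G Y)) := ha
  let ψ := Spec.preimage (T.left.isoSpec.inv ≫ T.hom)
  letI : Algebra A Γ(T.left, ⊤) := ψ.hom.toAlgebra
  have hψ : Spec.map ψ = T.left.isoSpec.inv ≫ T.hom := Spec.map_preimage _
  haveI : Module.Flat A Γ(T.left, ⊤) := by
    have : Flat (Spec.map ψ) := by rw [hψ]; infer_instance
    exact Flat.SpecMap_iff.mp this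
  let e : T ≅ Sp A Γ(T.left, ⊤) := Over.isoMk T.left.isoSpec (by
    show T.left.isoSpec.hom ≫ Spec.map ψ = T.hom
    rw [hψ, Iso.hom_inv_id_assoc])
  obtain ⟨hS, hE⟩ := glue_affine hq htor Γ(T.left, ⊤) G
  have hS' := hS.of_iso e
  have hE' := hE.of_iso e
  let gm : ∀ {T'' : Over (Spec (CommRingCat.of A))}, (T'' ⟶ Y) → (T'' ⟶ Y) → (T'' ⟶ G) :=
    fun z m => lift z m ≫ inv (lift a.act (snd G Y)) ≫ fst G Y
  have hgm : ∀ {T'' : Over (Spec (CommRingCat.of A))} (z m : T'' ⟶ Y), lift (gm z m) m ≫ a.act = z := by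
    intro T'' z m
    have h1 : lift z m ≫ inv (lift a.act (snd G Y)) = lift (gm z m) m := by
      apply CartesianMonoidalCategory.hom_ext
      · rw [lift_fst, Category.assoc]
      · rw [lift_snd, ← cancel_mono (𝟙 Y), Category.comp_id, Category.comp_id]
        have : inv (lift a.act (snd G Y)) ≫ snd G Y = snd Y Y := by
          rw [IsIso.inv_comp_eq, lift_snd]
        rw [Category.assoc, this, lift_snd]
    have h2 : inv (lift a.act (snd G Y)) ≫ a.act = fst Y Y := by rw [IsIso.inv_comp_eq, lift_fst]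
    rw [← h1, Category.assoc, h2, lift_fst]
  have hnat : ∀ {T₁ T₂ : Over (Spec (CommRingCat.of A))} (f : T₁ ⟶ T₂) (z m : T₂ ⟶ Y),
      f ≫ gm z m = gm (f ≫ z) (f ≫ m) := fun f z m => by
    show f ≫ lift z m ≫ _ = _
    rw [← Category.assoc, comp_lift]
  constructor
  · intro z z' hU hV
    have := hS' (gm z s) (gm z' s) (by rw [hnat, hnat, hU]) (by rw [hnat, hnat, hV])
    rw [← hgm z s, ← hgm z' s, this]
  · intro zU zV hag
    obtain ⟨g, hgU, hgV⟩ := hE' (gm zU (fst _ _ ≫ s)) (gm zV (fst _ _ ≫ s)) (by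
      rw [hnat, hnat, hag, ← Category.assoc (T ◁ iU A A' t), ← Category.assoc (T ◁ iV A A' t), whiskerLeft_fst,
        whiskerLeft_fst])
    refine ⟨lift g s ≫ a.act, ?_, ?_⟩
    · rw [← Category.assoc, comp_lift, hgU, hgm]
    · rw [← Category.assoc, comp_lift, hgV, hgm]

theorem sep_point (T : Over (Spec (CommRingCat.of A))) [Flat T.hom] (s : T ⟶ Y) : Sep A' t T Y := by
  intro z z' hU hV
  refine Over.OverMorphism.ext (Scheme.Cover.hom_ext T.left.affineCover _ _ fun i => ?_)
  let Ti : Over (Spec (CommRingCat.of A)) := Over.mk (T.left.affineCover.f i ≫ T.hom)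
  haveI : IsAffine Ti.left := inferInstanceAs (IsAffine (T.left.affineCover.X i))
  haveI : Flat Ti.hom := inferInstanceAs (Flat (_ ≫ _))
  let jm : Ti ⟶ T := Over.homMk (T.left.affineCover.f i)
  have h := (glue_point_affine hq htor a ha Ti (jm ≫ s)).1 (jm ≫ z) (jm ≫ z')
    (by rw [← whiskerRight_fst_assoc, ← whiskerRight_fst_assoc, hU])
    (by rw [← whiskerRight_fst_assoc, ← whiskerRight_fst_assoc, hV])
  exact congrArg CommaMorphism.left h

theorem ex_point (T : Over (Spec (CommRingCat.of A))) [Flat T.hom] (s : T ⟶ Y) : Ex A' t T Y := by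
  intro zU zV hag
  let 𝒰 := T.left.affineCover
  let Ti (i : 𝒰.I₀) : Over (Spec (CommRingCat.of A)) := Over.mk (𝒰.f i ≫ T.hom)
  let jm (i : 𝒰.I₀) : Ti i ⟶ T := Over.homMk (𝒰.f i)
  have hi : ∀ i, ∃ z : Ti i ⟶ Y, fst (Ti i) (U A t) ≫ z = (jm i ▷ _) ≫ zU ∧
      fst (Ti i) (V A A') ≫ z = (jm i ▷ _) ≫ zV := fun i => by
    haveI : IsAffine (Ti i).left := inferInstanceAs (IsAffine (T.left.affineCover.X i))
    haveI : Flat (Ti i).hom := inferInstanceAs (Flat (_ ≫ _))
    refine (glue_point_affine hq htor a ha (Ti i) (jm i ≫ s)).2 _ _ ?_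
    rw [← Category.assoc, whisker_exchange, Category.assoc, hag, ← Category.assoc, ← whisker_exchange,
      Category.assoc]
  choose z hzU hzV using hi
  have hglue : ∀ i j, pullback.fst (𝒰.f i) (𝒰.f j) ≫ (z i).left = pullback.snd (𝒰.f i) (𝒰.f j) ≫ (z j).left := by
    intro i j
    let O : Over (Spec (CommRingCat.of A)) := Over.mk (pullback.fst (𝒰.f i) (𝒰.f j) ≫ 𝒰.f i ≫ T.hom)
    haveI : Flat O.hom := inferInstanceAs (Flat (_ ≫ _ ≫ _))
    let qi : O ⟶ Ti i := Over.homMk (pullback.fst (𝒰.f i) (𝒰.f j))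
    let qj : O ⟶ Ti j := Over.homMk (pullback.snd (𝒰.f i) (𝒰.f j)) (by
      show pullback.snd _ _ ≫ 𝒰.f j ≫ T.hom = pullback.fst _ _ ≫ 𝒰.f i ≫ T.hom
      rw [pullback.condition_assoc])
    have hij : qj ≫ jm j = qi ≫ jm i := Over.OverMorphism.ext pullback.condition.symm
    have h := sep_point hq htor a ha O (qi ≫ jm i ≫ s) (qi ≫ z i) (qj ≫ z j)
      (by rw [← whiskerRight_fst_assoc, hzU, ← whiskerRight_fst_assoc, hzU, ← comp_whiskerRight_assoc,
        ← comp_whiskerRight_assoc, hij])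
      (by rw [← whiskerRight_fst_assoc, hzV, ← whiskerRight_fst_assoc, hzV, ← comp_whiskerRight_assoc,
        ← comp_whiskerRight_assoc, hij])
    exact congrArg CommaMorphism.left h
  let zl : T.left ⟶ Y.left := 𝒰.glueMorphisms (fun i => (z i).left) hglue
  let zz : T ⟶ Y := Over.homMk zl (Scheme.Cover.hom_ext 𝒰 _ _ fun i => by
    rw [← Category.assoc, Scheme.Cover.ι_glueMorphisms]
    exact Over.w (z i))
  have hz : ∀ i, jm i ≫ zz = z i := fun i => Over.OverMorphism.ext (Scheme.Cover.ι_glueMorphisms _ _ _ i)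
  refine ⟨zz, whisker_hom_ext 𝒰 _ _ fun i => ?_, whisker_hom_ext 𝒰 _ _ fun i => ?_⟩
  · show (jm i ▷ _) ≫ _ = (jm i ▷ _) ≫ _
    rw [whiskerRight_fst_assoc, hz, hzU]
  · show (jm i ▷ _) ≫ _ = (jm i ▷ _) ≫ _
    rw [whiskerRight_fst_assoc, hz, hzV]

omit hq htor ha in
/-- A flat, locally finitely presented, surjective morphism of the base on which a torsor has a point. -/
theorem exists_cover (hloc : NonAbH1.IsLocallyTrivialFor Scheme.fppfPrecoverage Y) :
    ∃ (Q : Over (Spec (CommRingCat.of A))) (_ : Q ⟶ Y),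
      Flat Q.hom ∧ LocallyOfFinitePresentation Q.hom ∧ Surjective Q.hom := by
  obtain ⟨R, hR, hs⟩ := hloc
  obtain ⟨I, X, f, rfl⟩ := R.exists_eq_ofArrows
  obtain ⟨hj, hf⟩ := (Scheme.ofArrows_mem_precoverage_iff (P := @Flat ⊓ @LocallyOfFinitePresentation)).mp hR
  choose ix hix using hj
  choose σ hσ using fun x => hs (f (ix x)) ⟨ix x⟩
  let q := Sigma.desc fun x => f (ix x)
  refine ⟨Over.mk q, Over.homMk (Sigma.desc σ) (Sigma.hom_ext _ _ fun x => ?_), ?_, ?_, ?_⟩
  · show Sigma.ι _ x ≫ Sigma.desc σ ≫ Y.hom = Sigma.ι _ x ≫ q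
    rw [Sigma.ι_desc_assoc, Sigma.ι_desc, hσ]
  · exact IsZariskiLocalAtSource.sigmaDesc fun x => (hf _).1
  · exact IsZariskiLocalAtSource.sigmaDesc fun x => (hf _).2
  · exact Surjective.sigmaDesc_of_union_range_eq_univ
      (Set.eq_univ_of_forall fun x => Set.mem_iUnion.mpr ⟨x, hix x⟩)

variable (hloc : NonAbH1.IsLocallyTrivialFor Scheme.fppfPrecoverage Y)
include hloc

omit hq htor in
theorem flat_hom [Flat G.hom] : Flat Y.hom := by
  obtain ⟨Q, σ, hQf, _, hQs⟩ := exists_cover (A := A) hloc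
  haveI := hQf
  haveI := hQs
  haveI : IsIso (lift a.act (snd G Y)) := ha
  -- `Y ⊗ Q ≅ G ⊗ Q`
  let α : Y ⊗ Q ⟶ G ⊗ Q := lift (lift (fst Y Q) (snd Y Q ≫ σ) ≫ inv (lift a.act (snd G Y)) ≫ fst G Y) (snd Y Q)
  let β : G ⊗ Q ⟶ Y ⊗ Q := lift (lift (fst G Q) (snd G Q ≫ σ) ≫ a.act) (snd G Q)
  have h2 : inv (lift a.act (snd G Y)) ≫ a.act = fst Y Y := by rw [IsIso.inv_comp_eq, lift_fst]
  have h3 : inv (lift a.act (snd G Y)) ≫ snd G Y = snd Y Y := by rw [IsIso.inv_comp_eq, lift_snd]
  have hαβ : α ≫ β = 𝟙 _ := by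
    apply CartesianMonoidalCategory.hom_ext
    · rw [Category.assoc, lift_fst, ← Category.assoc, comp_lift, lift_fst, lift_snd_assoc, Category.id_comp]
      have : lift (fst Y Q) (snd Y Q ≫ σ) ≫ inv (lift a.act (snd G Y)) =
          lift (lift (fst Y Q) (snd Y Q ≫ σ) ≫ inv (lift a.act (snd G Y)) ≫ fst G Y) (snd Y Q ≫ σ) := by
        apply CartesianMonoidalCategory.hom_ext
        · rw [lift_fst, Category.assoc]
        · rw [lift_snd, Category.assoc, h3, lift_snd]
      rw [← this, Category.assoc, h2, lift_fst]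
    · rw [Category.assoc, lift_snd, lift_snd, Category.id_comp]
  have hβα : β ≫ α = 𝟙 _ := by
    apply CartesianMonoidalCategory.hom_ext
    · rw [Category.assoc, lift_fst, ← Category.assoc, comp_lift, lift_fst, lift_snd_assoc, Category.id_comp]
      have : lift (lift (fst G Q) (snd G Q ≫ σ) ≫ a.act) (snd G Q ≫ σ) =
          lift (fst G Q) (snd G Q ≫ σ) ≫ lift a.act (snd G Y) := by
        rw [comp_lift, lift_snd]
      rw [this, Category.assoc, IsIso.hom_inv_id_assoc, lift_fst]
    · rw [Category.assoc, lift_snd, lift_snd, Category.id_comp]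
  let e : Y ⊗ Q ≅ G ⊗ Q := ⟨α, β, hαβ, hβα⟩
  haveI : Flat (G ⊗ Q).hom := inferInstanceAs (Flat (pullback.fst G.hom Q.hom ≫ G.hom))
  haveI : IsIso α.left := ((Over.forget _).mapIso e).isIso_hom
  haveI : Flat (Y ⊗ Q).hom := by rw [← Over.w α]; infer_instance
  haveI : Flat (pullback.fst Y.hom Q.hom ≫ Y.hom) := this
  haveI : Surjective (pullback.fst Y.hom Q.hom) := MorphismProperty.pullback_fst _ _ inferInstance
  exact flat_of_flat_comp (pullback.fst Y.hom Q.hom) Y.hom

/-- Morphisms from flat objects to a torsor are separated. -/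
theorem sep_flat (T : Over (Spec (CommRingCat.of A))) [Flat T.hom] : Sep A' t T Y := by
  obtain ⟨Q, σ, hQf, _, hQs⟩ := exists_cover (A := A) hloc
  haveI := hQf
  haveI := hQs
  let p : T ⊗ Q ⟶ T := fst T Q
  haveI : Flat p.left := inferInstanceAs (Flat (pullback.fst T.hom Q.hom))
  haveI : Surjective p.left := MorphismProperty.pullback_fst _ _ inferInstance
  haveI : Flat (T ⊗ Q).hom := inferInstanceAs (Flat (pullback.fst T.hom Q.hom ≫ T.hom))
  haveI : Epi p.left := Flat.epi_of_flat_of_surjective _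
  haveI : Epi p := Over.epi_of_epi_left p
  intro z z' hU hV
  rw [← cancel_epi p]
  exact sep_point hq htor a ha (T ⊗ Q) (snd T Q ≫ σ) (p ≫ z) (p ≫ z')
    (by rw [← whiskerRight_fst_assoc, ← whiskerRight_fst_assoc, hU])
    (by rw [← whiskerRight_fst_assoc, ← whiskerRight_fst_assoc, hV])

/-- Morphisms from flat objects to a torsor glue. -/
theorem ex_flat (T : Over (Spec (CommRingCat.of A))) [Flat T.hom] : Ex A' t T Y := by
  obtain ⟨Q, σ, hQf, hQp, hQs⟩ := exists_cover (A := A) hloc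
  haveI := hQf
  haveI := hQp
  haveI := hQs
  let p : T ⊗ Q ⟶ T := fst T Q
  haveI : Flat p.left := inferInstanceAs (Flat (pullback.fst T.hom Q.hom))
  haveI : Surjective p.left := MorphismProperty.pullback_fst _ _ inferInstance
  haveI : LocallyOfFinitePresentation p.left := MorphismProperty.pullback_fst T.hom Q.hom hQp
  haveI : Flat (T ⊗ Q).hom := inferInstanceAs (Flat (pullback.fst T.hom Q.hom ≫ T.hom))
  haveI : Epi p.left := Flat.epi_of_flat_of_surjective _
  intro zU zV hag
  obtain ⟨z', hU', hV'⟩ := ex_point hq htor a ha (T ⊗ Q) (snd T Q ≫ σ) ((p ▷ _) ≫ zU) ((p ▷ _) ≫ zV) (by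
    rw [← Category.assoc, whisker_exchange, Category.assoc, hag, ← Category.assoc, ← whisker_exchange,
      Category.assoc])
  have hcompat : ∀ {Z : Scheme.{u}} (g₁ g₂ : Z ⟶ (T ⊗ Q).left), g₁ ≫ p.left = g₂ ≫ p.left →
      g₁ ≫ z'.left = g₂ ≫ z'.left := by
    intro Z g₁ g₂ hg
    let D : Over (Spec (CommRingCat.of A)) := Over.mk (pullback.fst p.left p.left ≫ (T ⊗ Q).hom)
    haveI : Flat D.hom := inferInstanceAs (Flat (_ ≫ _))
    let q₁ : D ⟶ T ⊗ Q := Over.homMk (pullback.fst p.left p.left)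
    let q₂ : D ⟶ T ⊗ Q := Over.homMk (pullback.snd p.left p.left) (by
      show pullback.snd _ _ ≫ (T ⊗ Q).hom = pullback.fst _ _ ≫ (T ⊗ Q).hom
      rw [← Over.w p, pullback.condition_assoc])
    have hpq : q₂ ≫ p = q₁ ≫ p := Over.OverMorphism.ext pullback.condition.symm
    have h := sep_point hq htor a ha D (q₁ ≫ snd T Q ≫ σ) (q₁ ≫ z') (q₂ ≫ z')
      (by rw [← whiskerRight_fst_assoc, hU', ← whiskerRight_fst_assoc, hU', ← comp_whiskerRight_assoc,
        ← comp_whiskerRight_assoc, hpq])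
      (by rw [← whiskerRight_fst_assoc, hV', ← whiskerRight_fst_assoc, hV', ← comp_whiskerRight_assoc,
        ← comp_whiskerRight_assoc, hpq])
    have h' : pullback.fst p.left p.left ≫ z'.left = pullback.snd p.left p.left ≫ z'.left :=
      congrArg CommaMorphism.left h
    rw [← pullback.lift_fst g₁ g₂ hg, Category.assoc, h', pullback.lift_snd_assoc]
  let zl : T.left ⟶ Y.left := EffectiveEpi.desc p.left z'.left (fun g₁ g₂ h => hcompat g₁ g₂ h)
  let z : T ⟶ Y := Over.homMk zl (by
    rw [← cancel_epi p.left, ← Category.assoc, EffectiveEpi.fac, Over.w p, Over.w z'])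
  have hz : p ≫ z = z' := Over.OverMorphism.ext (EffectiveEpi.fac p.left z'.left (fun g₁ g₂ h => hcompat g₁ g₂ h))
  haveI := epi_whiskerRight p (U A t)
  haveI := epi_whiskerRight p (V A A')
  refine ⟨z, ?_, ?_⟩
  · rw [← cancel_epi (p ▷ U A t), whiskerRight_fst_assoc, hz, hU']
  · rw [← cancel_epi (p ▷ V A A'), whiskerRight_fst_assoc, hz, hV']

end

end Groth.Agent.GlueTor
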