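import Groth.Agent.GlueTor.Ring
import Groth.Agent.GSGlue.Main
import Groth.Agent.S15769
import Groth.Prelude.Def_NonAbH2
import Mathlib.AlgebraicGeometry.QuasiAffine
import Mathlib.AlgebraicGeometry.Sites.Fpqc

/-! Points over a glueing square of schemes flat over the base. -/

set_option autoImplicit false
set_option linter.style.haveILetI false
set_option backward.isDefEq.respectTransparency false

universe u

open CategoryTheory CategoryTheory.Limits AlgebraicGeometry MonoidalCategory CartesianMonoidalCategory TensorProduct
open scoped MonObj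

noncomputable section

namespace Groth.Agent.GlueTor

open GSGlue (Sp spMap spMap_comp exists_spMap prodIso prodIso_inv_fst prodIso_inv_snd)

variable (A A' : Type u) [CommRing A] [CommRing A'] [Algebra A A'] (t : A)

/-- The punctured neighbourhood. -/
abbrev U : Over (Spec (CommRingCat.of A)) := Sp A (Localization.Away t)

/-- The formal neighbourhood. -/
abbrev V : Over (Spec (CommRingCat.of A)) := Sp A A'

/-- The overlap. -/
abbrev W : Over (Spec (CommRingCat.of A)) := Sp A (Localization.Away (algebraMap A A' t))

/-- The map of the overlap to the punctured neighbourhood, on rings. -/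
def aU : Localization.Away t →ₐ[A] Localization.Away (algebraMap A A' t) :=
  { Localization.awayMap (algebraMap A A') t with
    commutes' := fun a => by
      show Localization.awayMap (algebraMap A A') t (algebraMap A (Localization.Away t) a) = _
      rw [Localization.awayMap, IsLocalization.Away.map, IsLocalization.map_eq,
        ← IsScalarTower.algebraMap_apply] }

/-- The map of the overlap to the punctured neighbourhood. -/
abbrev iU : W A A' t ⟶ U A t := spMap (aU A A' t)

/-- The map of the overlap to the formal neighbourhood. -/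
abbrev iV : W A A' t ⟶ V A A' := spMap (IsScalarTower.toAlgHom A A' (Localization.Away (algebraMap A A' t)))

variable {A}

/-- The two restrictions determine a morphism. -/
def Sep (T Y : Over (Spec (CommRingCat.of A))) : Prop :=
  ∀ z z' : T ⟶ Y, fst T (U A t) ≫ z = fst T (U A t) ≫ z' → fst T (V A A') ≫ z = fst T (V A A') ≫ z' → z = z'

/-- Compatible morphisms over the two neighbourhoods glue. -/
def Ex (T Y : Over (Spec (CommRingCat.of A))) : Prop :=
  ∀ (zU : T ⊗ U A t ⟶ Y) (zV : T ⊗ V A A' ⟶ Y), (T ◁ iU A A' t) ≫ zU = (T ◁ iV A A' t) ≫ zV →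
    ∃ z : T ⟶ Y, fst T (U A t) ≫ z = zU ∧ fst T (V A A') ≫ z = zV

variable {A'} {t}

theorem Sep.of_iso {T T' Y : Over (Spec (CommRingCat.of A))} (e : T ≅ T') (h : Sep A' t T' Y) : Sep A' t T Y := by
  intro z z' hU hV
  have key := h (e.inv ≫ z) (e.inv ≫ z')
    (by rw [← whiskerRight_fst_assoc, ← whiskerRight_fst_assoc, hU])
    (by rw [← whiskerRight_fst_assoc, ← whiskerRight_fst_assoc, hV])
  exact (cancel_epi e.inv).mp key

theorem Ex.of_iso {T T' Y : Over (Spec (CommRingCat.of A))} (e : T ≅ T') (h : Ex A' t T' Y) : Ex A' t T Y := by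
  intro zU zV hag
  obtain ⟨z, hU, hV⟩ := h ((e.inv ▷ _) ≫ zU) ((e.inv ▷ _) ≫ zV) (by
    rw [← Category.assoc, whisker_exchange, Category.assoc, hag, ← Category.assoc, ← whisker_exchange, Category.assoc])
  refine ⟨e.hom ≫ z, ?_, ?_⟩
  · rw [← whiskerRight_fst_assoc, hU, ← Category.assoc, ← comp_whiskerRight, Iso.hom_inv_id, id_whiskerRight,
      Category.id_comp]
  · rw [← whiskerRight_fst_assoc, hV, ← Category.assoc, ← comp_whiskerRight, Iso.hom_inv_id, id_whiskerRight,
      Category.id_comp]

theorem awayMap_algebraMap {R R' : Type u} [CommRing R] [CommRing R'] (f : R →+* R') (r x : R) :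
    Localization.awayMap f r (algebraMap R (Localization.Away r) x) =
      algebraMap R' (Localization.Away (f r)) (f x) := by
  rw [Localization.awayMap, IsLocalization.Away.map, IsLocalization.map_eq]

theorem exists_overlap {L : Type u} [CommRing L] [Algebra A L] (gV : A' →ₐ[A] L)
    (gU : Localization.Away t →ₐ[A] L) :
    ∃ rW : Localization.Away (algebraMap A A' t) →ₐ[A] L,
      rW.comp (IsScalarTower.toAlgHom A A' (Localization.Away (algebraMap A A' t))) = gV ∧
        rW.comp (aU A A' t) = gU := by
  have hru : IsUnit (gV (algebraMap A A' t)) := by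
    rw [gV.commutes, ← gU.commutes]
    exact (IsLocalization.Away.algebraMap_isUnit t).map gU
  let rW : Localization.Away (algebraMap A A' t) →ₐ[A] L :=
    { IsLocalization.Away.lift (S := Localization.Away (algebraMap A A' t)) (algebraMap A A' t) (g := gV.toRingHom)
        hru with
      commutes' := fun a => by
        show IsLocalization.Away.lift (algebraMap A A' t) (g := gV.toRingHom) hru (algebraMap A _ a) = _
        rw [IsScalarTower.algebraMap_apply A A' (Localization.Away (algebraMap A A' t)),
          IsLocalization.Away.lift_eq]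
        exact gV.commutes a }
  refine ⟨rW, AlgHom.ext fun a => IsLocalization.Away.lift_eq (algebraMap A A' t) hru a,
    AlgHom.coe_ringHom_injective (IsLocalization.ringHom_ext (Submonoid.powers t) (RingHom.ext fun a => ?_))⟩
  simp only [RingHom.comp_apply, RingHom.coe_coe]
  rw [AlgHom.commutes, AlgHom.commutes]

variable (hq : QuotBij t (algebraMap A A')) (htor : TorBij t (algebraMap A A'))
include hq htor

/-- Affine flat test objects: points of a scheme with quasi-affine total space glue. -/
theorem glue_affine (B : Type u) [CommRing B] [Algebra A B] [Module.Flat A B] (Y : Over (Spec (CommRingCat.of A)))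
    [Y.left.IsQuasiAffine] : Sep A' t (Sp A B) Y ∧ Ex A' t (Sp A B) Y := by
  let S := Spec (CommRingCat.of A)
  let bB : Spec (CommRingCat.of B) ⟶ S := Spec.map (CommRingCat.ofHom (algebraMap A B))
  haveI : IsAffineHom (pullback.fst Y.hom bB) := MorphismProperty.pullback_fst _ _ (inferInstanceAs (IsAffineHom (Spec.map _)))
  haveI : (pullback Y.hom bB).IsQuasiAffine := Scheme.IsQuasiAffine.of_isAffineHom (pullback.fst Y.hom bB)
  let φB : B →+* B ⊗[A] A' := Algebra.TensorProduct.includeLeftRingHom
  let tB := algebraMap A B t
  obtain ⟨huniq, hexi⟩ := S15769.result B (B ⊗[A] A') φB tB (quotBij_baseChange B hq) (torBij_baseChange B htor)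
    (pullback Y.hom bB) (pullback.snd Y.hom bB)
  -- the two localisations
  haveI : IsLocalization.Away tB (B ⊗[A] Localization.Away t) := inferInstance
  let e : Localization.Away tB ≃ₐ[B] B ⊗[A] Localization.Away t := IsLocalization.algEquiv (Submonoid.powers tB) _ _
  let eA : Localization.Away tB ≃ₐ[A] B ⊗[A] Localization.Away t := e.restrictScalars A
  let jU : Sp A (Localization.Away tB) ⟶ Sp A B ⊗ U A t :=
    spMap eA.symm.toAlgHom ≫ (prodIso B (Localization.Away t)).inv
  haveI : IsIso jU := by
    haveI : IsIso (spMap eA.symm.toAlgHom) := (GSGlue.spIso eA.symm).isIso_hom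
    infer_instance
  have hjU : jU ≫ fst _ _ = spMap (IsScalarTower.toAlgHom A B (Localization.Away tB)) := by
    rw [Category.assoc, prodIso_inv_fst, ← spMap_comp]
    congr 1
    refine AlgHom.ext fun b => ?_
    exact e.symm.commutes b
  let jV : Sp A (B ⊗[A] A') ⟶ Sp A B ⊗ V A A' := (prodIso B A').inv
  haveI : IsIso jV := (prodIso B A').isIso_inv
  have hjV : jV ≫ fst _ _ = spMap (Algebra.TensorProduct.includeLeft (R := A) (S := A)) := prodIso_inv_fst
  have toSec : ∀ z : Sp A B ⟶ Y, ∃ s : Spec (CommRingCat.of B) ⟶ pullback Y.hom bB,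
      s ≫ pullback.snd _ _ = 𝟙 _ ∧ s ≫ pullback.fst _ _ = z.left := fun z =>
    ⟨pullback.lift z.left (𝟙 _) (by rw [Category.id_comp]; exact Over.w z), pullback.lift_snd _ _ _,
      pullback.lift_fst _ _ _⟩
  constructor
  · intro z z' hU hV
    obtain ⟨s, hs, hs'⟩ := toSec z
    obtain ⟨r, hr, hr'⟩ := toSec z'
    have hss : s = r := by
      refine huniq s r hs hr ?_ ?_
      · apply pullback.hom_ext
        · rw [Category.assoc, Category.assoc, hs', hr']
          have := congrArg (fun m => CommaMorphism.left (jV ≫ m)) hV
          simp only [← Category.assoc, hjV] at this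
          exact this
        · rw [Category.assoc, Category.assoc, hs, hr]
      · apply pullback.hom_ext
        · rw [Category.assoc, Category.assoc, hs', hr']
          have := congrArg (fun m => CommaMorphism.left (jU ≫ m)) hU
          simp only [← Category.assoc, hjU] at this
          exact this
        · rw [Category.assoc, Category.assoc, hs, hr]
    exact Over.OverMorphism.ext (hs'.symm.trans ((congrArg (· ≫ pullback.fst _ _) hss).trans hr'))
  · intro zU zV hag
    let xt : Spec (CommRingCat.of (Localization.Away tB)) ⟶ pullback Y.hom bB :=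
      pullback.lift (jU ≫ zU).left (Spec.map (CommRingCat.ofHom (algebraMap B (Localization.Away tB)))) (by
        rw [Over.w, ← Spec.map_comp, ← CommRingCat.ofHom_comp, ← IsScalarTower.algebraMap_eq]; rfl)
    let x' : Spec (CommRingCat.of (B ⊗[A] A')) ⟶ pullback Y.hom bB :=
      pullback.lift (jV ≫ zV).left (Spec.map (CommRingCat.ofHom φB)) (by
        rw [Over.w, ← Spec.map_comp, ← CommRingCat.ofHom_comp]
        congr 2)
    let L := Localization.Away (φB tB)
    let πV : B ⊗[A] A' →ₐ[A] L := IsScalarTower.toAlgHom A _ _
    let πU : Localization.Away tB →ₐ[A] L :=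
      { Localization.awayMap φB tB with
        commutes' := fun a => by
          show Localization.awayMap φB tB (algebraMap A (Localization.Away tB) a) = _
          rw [IsScalarTower.algebraMap_apply A B (Localization.Away tB), awayMap_algebraMap,
            IsScalarTower.algebraMap_apply A (B ⊗[A] A') L]
          rfl }
    have hB : ∀ b : B, πU (algebraMap B _ b) = πV (b ⊗ₜ 1) := fun b => awayMap_algebraMap φB tB b
    obtain ⟨rW, hrV, hrU⟩ := exists_overlap (t := t) (πV.comp Algebra.TensorProduct.includeRight)
      ((πU.comp eA.symm.toAlgHom).comp Algebra.TensorProduct.includeRight)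
    let l : Sp A L ⟶ Sp A B ⊗ W A A' t :=
      lift (spMap (πV.comp Algebra.TensorProduct.includeLeft)) (spMap rW)
    have hlV : l ≫ (Sp A B ◁ iV A A' t) = spMap πV ≫ jV := by
      apply CartesianMonoidalCategory.hom_ext
      · rw [Category.assoc, whiskerLeft_fst, lift_fst, Category.assoc, hjV, ← spMap_comp]
      · rw [Category.assoc, whiskerLeft_snd, lift_snd_assoc, Category.assoc, prodIso_inv_snd, ← spMap_comp,
          ← spMap_comp, hrV]
    have hlU : l ≫ (Sp A B ◁ iU A A' t) = spMap πU ≫ jU := by
      apply CartesianMonoidalCategory.hom_ext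
      · rw [Category.assoc, whiskerLeft_fst, lift_fst, Category.assoc, hjU, ← spMap_comp]
        congr 1
        exact AlgHom.ext fun b => (hB b).symm
      · rw [Category.assoc, whiskerLeft_snd, lift_snd_assoc, Category.assoc, Category.assoc, prodIso_inv_snd,
          ← spMap_comp, ← spMap_comp, ← spMap_comp, hrU, AlgHom.comp_assoc]
    obtain ⟨s, hs, hsV, hsU⟩ := hexi x' xt (pullback.lift_snd _ _ _) (pullback.lift_snd _ _ _) (by
      apply pullback.hom_ext
      · rw [Category.assoc, Category.assoc, pullback.lift_fst, pullback.lift_fst]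
        show (spMap πV).left ≫ (jV ≫ zV).left = (spMap πU).left ≫ (jU ≫ zU).left
        rw [← Over.comp_left, ← Over.comp_left, ← Category.assoc, ← Category.assoc, ← hlV, ← hlU, Category.assoc,
          Category.assoc, hag]
      · rw [Category.assoc, Category.assoc, pullback.lift_snd, pullback.lift_snd, ← Spec.map_comp, ← Spec.map_comp,
          ← CommRingCat.ofHom_comp, ← CommRingCat.ofHom_comp]
        congr 2
        refine RingHom.ext fun b => ?_
        exact (hB b).symm)
    let z : Sp A B ⟶ Y := Over.homMk (s ≫ pullback.fst _ _) (by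
      rw [Category.assoc, pullback.condition, ← Category.assoc, hs]
      exact Category.id_comp _)
    refine ⟨z, ?_, ?_⟩
    · rw [← cancel_epi jU, ← Category.assoc, hjU]
      refine Over.OverMorphism.ext ?_
      have := congrArg (· ≫ pullback.fst Y.hom bB) hsU
      simp only [Category.assoc] at this
      exact this.trans (pullback.lift_fst _ _ _)
    · rw [← cancel_epi jV, ← Category.assoc, hjV]
      refine Over.OverMorphism.ext ?_
      have := congrArg (· ≫ pullback.fst Y.hom bB) hsV
      simp only [Category.assoc] at this
      exact this.trans (pullback.lift_fst _ _ _)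

end Groth.Agent.GlueTor
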