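import Mathlib

/-! A glueing square of rings stays one after a flat base change. -/

set_option autoImplicit false
set_option linter.style.haveILetI false

universe u

open TensorProduct

namespace Groth.Agent.GlueTor

variable {A A' : Type u} [CommRing A] [CommRing A'] [Algebra A A'] (t : A)
  (B : Type u) [CommRing B] [Algebra A B]

/-- The reductions are bijective. -/
def QuotBij (φ : A →+* A') : Prop :=
  ∀ m : ℕ, Function.Bijective (Ideal.quotientMap (Ideal.map φ (Ideal.span {t} ^ m)) φ Ideal.le_comap_map)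

/-- The torsion submodules correspond. -/
def TorBij (φ : A →+* A') : Prop :=
  ∀ a' : A', (∃ m : ℕ, φ t ^ m * a' = 0) → ∃! a : A, (∃ m : ℕ, t ^ m * a = 0) ∧ φ a = a'

variable {t}

theorem quot_map_span {R R' : Type u} [CommRing R] [CommRing R'] (f : R →+* R') (r : R) (m : ℕ) (x : R') :
    x ∈ Ideal.map f (Ideal.span {r} ^ m) ↔ ∃ c, x = f r ^ m * c := by
  rw [Ideal.map_pow, Ideal.map_span, Set.image_singleton, Ideal.span_singleton_pow, Ideal.mem_span_singleton]
  exact Iff.rfl

/-- Bijectivity of the reductions is stable under base change. -/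
theorem quotBij_baseChange (hq : QuotBij t (algebraMap A A')) :
    QuotBij (algebraMap A B t) (Algebra.TensorProduct.includeLeftRingHom : B →+* B ⊗[A] A') := by
  intro m
  set ι' : B →+* B ⊗[A] A' := Algebra.TensorProduct.includeLeftRingHom
  have ht : ι' (algebraMap A B t) = algebraMap A (B ⊗[A] A') t := rfl
  constructor
  · rw [injective_iff_map_eq_zero]
    intro x hx
    obtain ⟨b, rfl⟩ := Ideal.Quotient.mk_surjective x
    rw [Ideal.quotientMap_mk, Ideal.Quotient.eq_zero_iff_mem, quot_map_span, ht] at hx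
    obtain ⟨c, hc⟩ := hx
    let κ := Ideal.quotientMap (Ideal.map (algebraMap A A') (Ideal.span {t} ^ m)) (algebraMap A A') Ideal.le_comap_map
    let e := RingEquiv.ofBijective κ (hq m)
    let I := Ideal.span {algebraMap A B t} ^ m
    let γ : A ⧸ Ideal.span {t} ^ m →+* B ⧸ I :=
      Ideal.quotientMap I (algebraMap A B) (by
        refine Ideal.map_le_iff_le_comap.mp ?_
        rw [Ideal.map_pow, Ideal.map_span, Set.image_singleton])
    let β : A' →ₐ[A] B ⧸ I :=
      { (γ.comp (e.symm.toRingHom.comp (Ideal.Quotient.mk _))) with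
        commutes' := fun a => by
          show γ (e.symm (Ideal.Quotient.mk _ (algebraMap A A' a))) = _
          rw [show e.symm (Ideal.Quotient.mk _ (algebraMap A A' a)) = Ideal.Quotient.mk _ a from
            e.symm_apply_eq.mpr (Ideal.quotientMap_mk (H := Ideal.le_comap_map)).symm]
          rfl }
    let ρ : B ⊗[A] A' →ₐ[A] B ⧸ I :=
      Algebra.TensorProduct.lift (IsScalarTower.toAlgHom A B (B ⧸ I)) β (fun _ _ => Commute.all _ _)
    rw [Ideal.Quotient.eq_zero_iff_mem]
    have h0 := congrArg ρ hc
    rw [map_mul, map_pow, ρ.commutes] at h0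
    have hb : ρ (ι' b) = Ideal.Quotient.mk I b := by simp [ρ, ι', Ideal.Quotient.algebraMap_eq]
    rw [hb, IsScalarTower.algebraMap_apply A B (B ⧸ I), Ideal.Quotient.algebraMap_eq, ← map_pow,
      (Ideal.Quotient.eq_zero_iff_mem).mpr (Ideal.pow_mem_pow (Ideal.mem_span_singleton_self _) m), zero_mul] at h0
    exact Ideal.Quotient.eq_zero_iff_mem.mp h0
  · intro x
    obtain ⟨z, rfl⟩ := Ideal.Quotient.mk_surjective x
    induction z using TensorProduct.induction_on with
    | zero => exact ⟨0, by rw [map_zero, map_zero]⟩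
    | tmul b a' =>
      obtain ⟨y, hy⟩ := (hq m).2 (Ideal.Quotient.mk _ a')
      obtain ⟨a, rfl⟩ := Ideal.Quotient.mk_surjective y
      rw [Ideal.quotientMap_mk, Ideal.Quotient.mk_eq_mk_iff_sub_mem, quot_map_span] at hy
      obtain ⟨c, hc⟩ := hy
      refine ⟨Ideal.Quotient.mk _ (a • b), ?_⟩
      rw [Ideal.quotientMap_mk, Ideal.Quotient.mk_eq_mk_iff_sub_mem, quot_map_span, ht]
      refine ⟨b ⊗ₜ c, ?_⟩
      show (a • b) ⊗ₜ[A] (1 : A') - b ⊗ₜ a' = _
      rw [TensorProduct.smul_tmul, ← Algebra.algebraMap_eq_smul_one, ← TensorProduct.tmul_sub, hc, ← map_pow,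
        ← map_pow, Algebra.algebraMap_eq_smul_one, Algebra.algebraMap_eq_smul_one, smul_one_mul, smul_one_mul,
        TensorProduct.tmul_smul]
    | add p q hp hq' =>
      obtain ⟨y, hy⟩ := hp
      obtain ⟨y', hy'⟩ := hq'
      exact ⟨y + y', by rw [map_add, hy, hy', map_add]⟩

/-- The `t ^ n`-torsion. -/
abbrev tor (t : A) (M : Type u) [AddCommGroup M] [Module A M] (n : ℕ) : Submodule A M :=
  LinearMap.ker (LinearMap.lsmul A M (t ^ n))

theorem tor_bijective (htor : TorBij t (algebraMap A A')) (n : ℕ) :
    Function.Bijective ((Algebra.linearMap A A').restrict (p := tor t A n) (q := tor t A' n) fun a ha => by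
      simp only [LinearMap.mem_ker, LinearMap.lsmul_apply] at ha ⊢
      rw [← map_smul, ha, map_zero]) := by
  constructor
  · rintro ⟨a, ha⟩ ⟨b, hb⟩ e
    have e' : algebraMap A A' a = algebraMap A A' b := congrArg Subtype.val e
    simp only [LinearMap.mem_ker, LinearMap.lsmul_apply, smul_eq_mul] at ha hb
    exact Subtype.ext ((htor (algebraMap A A' a) ⟨n, by rw [← map_pow, ← map_mul, ha, map_zero]⟩).unique
      ⟨⟨n, ha⟩, rfl⟩ ⟨⟨n, hb⟩, e'.symm⟩)
  · rintro ⟨a', ha'⟩
    simp only [LinearMap.mem_ker, LinearMap.lsmul_apply, Algebra.smul_def, map_pow] at ha'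
    obtain ⟨a, ⟨⟨m, hm⟩, rfl⟩, -⟩ := htor a' ⟨n, ha'⟩
    refine ⟨⟨a, ?_⟩, rfl⟩
    simp only [LinearMap.mem_ker, LinearMap.lsmul_apply, smul_eq_mul]
    exact (htor 0 ⟨0, mul_zero _⟩).unique
      ⟨⟨m, by rw [mul_left_comm, hm, mul_zero]⟩, by rw [map_mul, map_pow, ha']⟩ ⟨⟨0, mul_zero _⟩, map_zero _⟩

/-- The torsion of a flat base change comes from the torsion. -/
theorem exists_of_torsion [Module.Flat A B] (M : Type u) [AddCommGroup M] [Module A M] (n : ℕ) (z : B ⊗[A] M)
    (hz : t ^ n • z = 0) : ∃ w : B ⊗[A] tor t M n, (tor t M n).subtype.lTensor B w = z := by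
  refine ((Module.Flat.lTensor_exact B
    (LinearMap.exact_subtype_ker_map (LinearMap.lsmul A M (t ^ n)))) z).mp ?_
  induction z using TensorProduct.induction_on with
  | zero => exact map_zero _
  | tmul b x => rw [LinearMap.lTensor_tmul, LinearMap.lsmul_apply, TensorProduct.tmul_smul, hz]
  | add p q _ _ =>
    have key : ∀ w : B ⊗[A] M, (LinearMap.lsmul A M (t ^ n)).lTensor B w = t ^ n • w := fun w => by
      induction w using TensorProduct.induction_on with
      | zero => rw [map_zero, smul_zero]
      | tmul b x => rw [LinearMap.lTensor_tmul, LinearMap.lsmul_apply, TensorProduct.tmul_smul]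
      | add p q hp hq => rw [map_add, hp, hq, smul_add]
    rw [key, hz]

/-- Bijectivity on torsion is stable under flat base change. -/
theorem torBij_baseChange [Module.Flat A B] (htor : TorBij t (algebraMap A A')) :
    TorBij (algebraMap A B t) (Algebra.TensorProduct.includeLeftRingHom : B →+* B ⊗[A] A') := by
  set ι' : B →+* B ⊗[A] A' := Algebra.TensorProduct.includeLeftRingHom
  have key : ∀ (n : ℕ) (w : B ⊗[A] tor t A n),
      ι' (TensorProduct.rid A B ((tor t A n).subtype.lTensor B w)) =
        (tor t A' n).subtype.lTensor B ((LinearEquiv.ofBijective _ (tor_bijective htor n)).toLinearMap.lTensor B w) := by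
    intro n w
    induction w using TensorProduct.induction_on with
    | zero => simp
    | tmul b a =>
      simp [ι', TensorProduct.smul_tmul, Algebra.algebraMap_eq_smul_one]
    | add p q hp hq => simp only [map_add, hp, hq]
  intro z hz
  obtain ⟨n, hn⟩ := hz
  have hn' : t ^ n • z = 0 := by
    rw [Algebra.smul_def, map_pow]; exact hn
  obtain ⟨w, rfl⟩ := exists_of_torsion B A' n z hn'
  let e := LinearEquiv.ofBijective _ (tor_bijective htor n)
  obtain ⟨v, hv⟩ : ∃ v, e.toLinearMap.lTensor B v = w :=
    LinearMap.lTensor_surjective B e.surjective w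
  refine ⟨TensorProduct.rid A B ((tor t A n).subtype.lTensor B v), ⟨⟨n, ?_⟩, ?_⟩, ?_⟩
  · rw [← map_pow, ← Algebra.smul_def, ← map_smul]
    have : ∀ v : B ⊗[A] tor t A n, t ^ n • v = 0 := fun v => by
      induction v using TensorProduct.induction_on with
      | zero => exact smul_zero _
      | tmul b a => rw [← TensorProduct.tmul_smul, show t ^ n • a = 0 from Subtype.ext a.2, TensorProduct.tmul_zero]
      | add p q hp hq => rw [smul_add, hp, hq, add_zero]
    rw [← map_smul, this, map_zero, map_zero]
  · rw [key, hv]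
  rintro b ⟨⟨m, hm⟩, hb⟩
  set b₀ := TensorProduct.rid A B ((tor t A n).subtype.lTensor B v)
  have hd : ι' (b - b₀) = 0 := by rw [map_sub, hb, key, hv, sub_self]
  have htd : t ^ (m + n) • ((b - b₀) ⊗ₜ[A] (1 : A)) = 0 := by
    rw [TensorProduct.smul_tmul', Algebra.smul_def, map_pow, mul_sub, pow_add]
    have h1 : algebraMap A B t ^ n * b₀ = 0 := by
      rw [← map_pow, ← Algebra.smul_def, ← map_smul, ← map_smul]
      have : ∀ v : B ⊗[A] tor t A n, t ^ n • v = 0 := fun v => by
        induction v using TensorProduct.induction_on with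
        | zero => exact smul_zero _
        | tmul b a => rw [← TensorProduct.tmul_smul, show t ^ n • a = 0 from Subtype.ext a.2, TensorProduct.tmul_zero]
        | add p q hp hq => rw [smul_add, hp, hq, add_zero]
      rw [this, map_zero, map_zero]
    rw [mul_comm (algebraMap A B t ^ m), mul_assoc, hm, mul_zero, mul_comm (algebraMap A B t ^ n), mul_assoc, h1,
      mul_zero, sub_zero, TensorProduct.zero_tmul]
  obtain ⟨u, hu⟩ := exists_of_torsion B A (m + n) _ htd
  have h0 : ι' (b - b₀) = ι' (TensorProduct.rid A B ((tor t A (m + n)).subtype.lTensor B u)) := by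
    rw [hu, TensorProduct.rid_tmul, one_smul]
  rw [h0, key] at hd
  have hu0 : u = 0 := by
    have h1 := (Module.Flat.lTensor_preserves_injective_linearMap (M := B) _
      (tor t A' (m + n)).injective_subtype) (hd.trans (map_zero _).symm)
    exact (Module.Flat.lTensor_preserves_injective_linearMap (M := B) _
      (LinearEquiv.ofBijective _ (tor_bijective htor (m + n))).injective) (h1.trans (map_zero _).symm)
  rw [hu0, map_zero] at hu
  have := congrArg (TensorProduct.rid A B) hu
  rw [map_zero, TensorProduct.rid_tmul, one_smul] at this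
  exact sub_eq_zero.mp this.symm

end Groth.Agent.GlueTor
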